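import Cfsg.Agent.H13.Sink.Stmts
import Cfsg.Agent.H13.Sink.Basic
import Cfsg.Agent.H7.PActFStar
import Cfsg.Agent.H10.PSolvable
import Cfsg.Agent.H81.Fitting
import Cfsg.Agent.H1.CoprimeAction

/-!
A `q`-subgroup normalised by `d`, its periodic points and the centraliser of `d` modulo `O_q`
lies in `O_q`.
-/

set_option autoImplicit false
set_option linter.style.haveILetI false

namespace H43.Sink

open H13.Sink

universe u

/-- Splitting of a commuting pair of prime-power and prime-to-`r` parts. -/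
theorem exists_parts {G : Type u} [Group G] [Finite G] (d : G) (r : ℕ) [Fact r.Prime] :
    ∃ x ∈ Subgroup.zpowers d, ∃ y ∈ Subgroup.zpowers d, d = x * y ∧
      IsPGroup r (Subgroup.zpowers x) ∧ (orderOf y).Coprime r := by
  obtain ⟨a, m, hm, hn⟩ := Nat.exists_eq_pow_mul_and_not_dvd (orderOf_pos d).ne' r
    (Fact.out : r.Prime).ne_one
  have hcm : r.Coprime m := (Fact.out : r.Prime).coprime_iff_not_dvd.2 hm
  obtain ⟨s, t, hst⟩ := (Nat.isCoprime_iff_coprime.2 (hcm.pow_left a) :
    IsCoprime ((r ^ a : ℕ) : ℤ) (m : ℤ))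
  refine ⟨(d ^ m) ^ t, zpow_mem (pow_mem (Subgroup.mem_zpowers d) _) _, (d ^ (r ^ a)) ^ s,
    zpow_mem (pow_mem (Subgroup.mem_zpowers d) _) _, ?_, ?_, ?_⟩
  · rw [← zpow_natCast d m, ← zpow_natCast d (r ^ a), ← zpow_mul, ← zpow_mul, ← zpow_add,
      show (m : ℤ) * t + ((r ^ a : ℕ) : ℤ) * s = 1 by rw [← hst]; ring, zpow_one]
  · have h1 : orderOf ((d ^ m) ^ t) ∣ r ^ a := by
      refine orderOf_dvd_of_pow_eq_one ?_
      rw [← zpow_natCast _ (r ^ a), ← zpow_mul, mul_comm, zpow_mul, zpow_natCast, ← pow_mul,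
        mul_comm, ← hn, pow_orderOf_eq_one, one_zpow]
    obtain ⟨b, -, hb⟩ := (Nat.dvd_prime_pow Fact.out).1 h1
    exact IsPGroup.of_card (n := b) (by rw [Nat.card_zpowers, hb])
  · have h1 : orderOf ((d ^ (r ^ a)) ^ s) ∣ m := by
      refine orderOf_dvd_of_pow_eq_one ?_
      rw [← zpow_natCast _ m, ← zpow_mul, mul_comm, zpow_mul, zpow_natCast, ← pow_mul,
        ← hn, pow_orderOf_eq_one, one_zpow]
    exact hcm.symm.coprime_dvd_left h1

/-- If the periodic points of `d` in the `p`-group `Z` lie in `X`, a prime-to-`p` power of `d`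
acts trivially on `Z / X`, so has fixed points in every coset. -/
theorem split {G : Type u} [Group G] [Finite G] {p : ℕ} [Fact p.Prime] {d e : G}
    {Z X : Subgroup G} (hZ : IsPGroup p Z) (hXZ : X ≤ Z)
    (hdZ : d ∈ Subgroup.normalizer (Z : Set G)) (hdX : d ∈ Subgroup.normalizer (X : Set G))
    (hZX : Z ≤ Subgroup.normalizer (X : Set G)) (hs : ∀ x ∈ sink d, x ∈ Z → x ∈ X)
    (he : e ∈ Subgroup.zpowers d) (hep : (orderOf e).Coprime p) {z : G} (hz : z ∈ Z) :
    ∃ w ∈ Z, w * e = e * w ∧ z⁻¹ * w ∈ X := by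
  set K := Z ⊔ Subgroup.zpowers d with hK
  have hdK : d ∈ K := Subgroup.mem_sup_right (Subgroup.mem_zpowers d)
  have hzK : z ∈ K := Subgroup.mem_sup_left hz
  have heK : e ∈ K := Subgroup.mem_sup_right he
  have hKX : K ≤ Subgroup.normalizer (X : Set G) := sup_le hZX (Subgroup.zpowers_le.2 hdX)
  have hKZ : K ≤ Subgroup.normalizer (Z : Set G) :=
    sup_le Subgroup.le_normalizer (Subgroup.zpowers_le.2 hdZ)
  haveI : (X.subgroupOf K).Normal := Subgroup.normal_subgroupOf_of_le_normalizer hKX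
  haveI hZn : (Z.subgroupOf K).Normal := Subgroup.normal_subgroupOf_of_le_normalizer hKZ
  set π := QuotientGroup.mk' (X.subgroupOf K)
  have hphi : ∀ g : G, g ∈ K → phi d g ∈ Z := by
    intro g hg
    obtain ⟨v, hv, w, hw, rfl⟩ :=
      H1.exists_mul_of_mem_sup (Subgroup.zpowers_le.2 hdZ) (show g ∈ Z ⊔ Subgroup.zpowers d from hg)
    obtain ⟨k, rfl⟩ := Subgroup.mem_zpowers_iff.1 hw
    have e1 : phi d (v * d ^ k) = v * (d * v⁻¹ * d⁻¹) := by simp only [phi]; group
    rw [e1]
    exact mul_mem hv (Cfsg.Comp.conj_mem_of_le_normalizer (H := Subgroup.zpowers d)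
      (Subgroup.zpowers_le.2 hdZ) (Subgroup.mem_zpowers d) (inv_mem hv))
  have hdF : π ⟨d, hdK⟩ ∈ Cfsg.fittingSubgroup (K ⧸ X.subgroupOf K) := by
    refine mem_fitting_of_sink fun y hy => ?_
    obtain ⟨x, hx, rfl⟩ := exists_sink_lift π (QuotientGroup.mk'_surjective _) hy
    obtain ⟨x', -, hx'⟩ := exists_preimage hx
    have hxZ : (x : G) ∈ Z := by
      rw [← hx', ← Subgroup.coe_subtype, phi_map]
      exact hphi _ x'.2
    exact (QuotientGroup.eq_one_iff x).2
      (Subgroup.mem_subgroupOf.2 (hs _ (mem_sink_subtype.1 hx) hxZ))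
  have hzF : π ⟨z, hzK⟩ ∈ Cfsg.fittingSubgroup (K ⧸ X.subgroupOf K) := by
    haveI : ((Z.subgroupOf K).map π).Normal := hZn.map π (QuotientGroup.mk'_surjective _)
    have hp : IsPGroup p ((Z.subgroupOf K).map π) :=
      (hZ.of_equiv (Subgroup.subgroupOfEquivOfLe (le_sup_left : Z ≤ K)).symm).map π
    refine Cfsg.Comp.le_fittingSubgroup ‹_› hp.isNilpotent ?_
    exact Subgroup.mem_map_of_mem π (Subgroup.mem_subgroupOf.2 hz)
  have heF : π ⟨e, heK⟩ ∈ Cfsg.fittingSubgroup (K ⧸ X.subgroupOf K) := by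
    obtain ⟨k, rfl⟩ := Subgroup.mem_zpowers_iff.1 he
    rw [show (⟨d ^ k, heK⟩ : K) = ⟨d, hdK⟩ ^ k from Subtype.ext (by simp), map_zpow]
    exact zpow_mem hdF k
  obtain ⟨a, ha⟩ := hZ ⟨z, hz⟩
  have hza : z ^ (p ^ a) = 1 := congrArg Subtype.val ha
  have hco : (orderOf (⟨π ⟨z, hzK⟩, hzF⟩ : Cfsg.fittingSubgroup (K ⧸ X.subgroupOf K))).Coprime
      (orderOf (⟨π ⟨e, heK⟩, heF⟩ : Cfsg.fittingSubgroup (K ⧸ X.subgroupOf K))) := by
    rw [Subgroup.orderOf_mk, Subgroup.orderOf_mk]
    refine Nat.Coprime.coprime_dvd_left (orderOf_map_dvd π _) ?_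
    refine Nat.Coprime.coprime_dvd_right (orderOf_map_dvd π _) ?_
    rw [Subgroup.orderOf_mk, Subgroup.orderOf_mk]
    exact Nat.Coprime.coprime_dvd_left (orderOf_dvd_of_pow_eq_one hza) (hep.pow_right a).symm
  have hcomm : π ⟨z, hzK⟩ * π ⟨e, heK⟩ = π ⟨e, heK⟩ * π ⟨z, hzK⟩ :=
    congrArg Subtype.val (H81.commute_of_coprime_orderOf Cfsg.Comp.fitting_isNilpotent hco).eq
  have hle : Subgroup.zpowers e ≤ Subgroup.normalizer (X : Set G) :=
    (Subgroup.zpowers_le.2 he).trans (Subgroup.zpowers_le.2 hdX)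
  have hfix : ∀ a ∈ Subgroup.zpowers e, z⁻¹ * (a * z * a⁻¹) ∈ X := by
    intro a ha
    obtain ⟨k, rfl⟩ := Subgroup.mem_zpowers_iff.1 ha
    have hk : π ⟨z, hzK⟩ * (π ⟨e, heK⟩) ^ k = (π ⟨e, heK⟩) ^ k * π ⟨z, hzK⟩ :=
      (Commute.zpow_right hcomm k).eq
    have h1 : π ((⟨z, hzK⟩ : K)⁻¹ * (⟨e, heK⟩ ^ k * ⟨z, hzK⟩ * ((⟨e, heK⟩ : K) ^ k)⁻¹)) = 1 := by
      simp only [map_mul, map_inv, map_zpow]
      rw [← hk]; group
    have h2 := Subgroup.mem_subgroupOf.1 ((QuotientGroup.eq_one_iff _).1 h1)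
    simpa using h2
  have hcard : (Nat.card X).Coprime (Nat.card (Subgroup.zpowers e)) := by
    obtain ⟨b, hb⟩ := IsPGroup.iff_card.1 (hZ.to_le hXZ)
    rw [hb, Nat.card_zpowers]
    exact (hep.pow_right b).symm
  obtain ⟨c, hc, hzc⟩ := H1.exists_fixed_mem_coset hle hcard
    (Or.inr (Group.isSolvable_of_comm fun a b => (IsCyclic.commGroup (α := Subgroup.zpowers e)).mul_comm a b)) hfix
  refine ⟨c, ?_, (Subgroup.mem_centralizer_iff.1 hc e (Subgroup.mem_zpowers e)).symm, hzc⟩
  have := mul_mem hz (hXZ hzc)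
  rwa [mul_inv_cancel_left] at this

theorem core_aux {A : Type u} [Group A] [Finite A] (hC : CellStmt.{u}) (hS : SubT A) {q : ℕ}
    [Fact q.Prime] (hO : Cfsg.pCore q A = ⊥) {d : A} {R : Subgroup A} (hR : IsPGroup q R)
    (hd : d ∈ Subgroup.normalizer (R : Set A))
    (hs : sink d ⊆ (Subgroup.normalizer (R : Set A) : Set A))
    (hc : ∀ g : A, g * d = d * g → g ∈ Subgroup.normalizer (R : Set A)) : R = ⊥ := by
  set N := Subgroup.normalizer (R : Set A) with hN
  have hXN : sinkGrp d ≤ N := (Subgroup.closure_le N).2 hs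
  have hFX : Cfsg.generalizedFittingSubgroup A ≤ Subgroup.normalizer (sinkGrp d : Set A) :=
    (hC hS d).1
  have hFN : Cfsg.generalizedFittingSubgroup A ≤ N := by
    refine sup_le ?_ ?_
    · rw [Cfsg.Comp.layer_le_iff]
      intro L hL
      rcases Cfsg.Comp.component_le_or_commute hL (hS d) with h | h
      · exact h.trans (sT_le_iff.2 ⟨hd, hs⟩)
      · exact fun x hx => hc x (Cfsg.Comp.commute_of_commutator_eq_bot h hx (mem_sT_self d))
    · rw [Cfsg.Comp.fitting_eq_iSup_pCore]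
      refine iSup_le fun r => ?_
      haveI := Fact.mk r.2
      by_cases hrq : (r : ℕ) = q
      · rw [hrq, hO]; exact bot_le
      set Y := Cfsg.pCore (r : ℕ) A with hY
      haveI hYn : Y.Normal := inferInstance
      have hYp : IsPGroup (r : ℕ) Y := Cfsg.Comp.pCore_isPGroup _
      have hdisj : Disjoint Y R := IsPGroup.disjoint_of_ne (r : ℕ) q hrq Y R hYp hR
      have key : ∀ y ∈ Y, y ∈ N → ∀ u ∈ R, y * u = u * y := by
        intro y hy hyN u hu
        have h1 : y * u * y⁻¹ * u⁻¹ ∈ R :=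
          mul_mem ((Subgroup.mem_normalizer_iff.1 hyN u).1 hu) (inv_mem hu)
        have h2 : y * u * y⁻¹ * u⁻¹ ∈ Y := by
          have := mul_mem hy (hYn.conj_mem _ (inv_mem hy) u)
          simpa [mul_assoc] using this
        have h3 := Subgroup.disjoint_def.1 hdisj h2 h1
        exact mul_inv_eq_iff_eq_mul.1 (mul_inv_eq_one.1 h3)
      have hXF : ∀ y ∈ Y, y ∈ Subgroup.normalizer (sinkGrp d : Set A) := fun y hy =>
        hFX (Cfsg.Comp.fitting_le_fStar (Cfsg.Comp.pCore_le_fitting (r : ℕ) hy))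
      -- (i) members of `R` among the periodic points centralise `Y`
      have hi : ∀ x ∈ sink d, x ∈ R → x ∈ R ⊓ Subgroup.centralizer (Y : Set A) := by
        intro x hx hxR
        refine Subgroup.mem_inf.2 ⟨hxR, Subgroup.mem_centralizer_iff.2 fun y hy => ?_⟩
        have hxX : x ∈ sinkGrp d := Subgroup.subset_closure hx
        set c := y * x * y⁻¹ * x⁻¹ with hcdef
        have hcY : c ∈ Y := by
          have := mul_mem hy (hYn.conj_mem _ (inv_mem hy) x)
          simpa [hcdef, mul_assoc] using this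
        have hcX : c ∈ sinkGrp d :=
          mul_mem ((Subgroup.mem_normalizer_iff.1 (hXF y hy) x).1 hxX) (inv_mem hxX)
        have hcc : Commute c x := key c hcY (hXN hcX) x hxR
        have hco : (orderOf c).Coprime (orderOf x) := by
          obtain ⟨a, ha⟩ := hYp ⟨c, hcY⟩
          obtain ⟨b, hb⟩ := hR ⟨x, hxR⟩
          refine Nat.Coprime.coprime_dvd_left (orderOf_dvd_of_pow_eq_one (congrArg Subtype.val ha))
            (Nat.Coprime.coprime_dvd_right (orderOf_dvd_of_pow_eq_one (congrArg Subtype.val hb)) ?_)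
          exact ((Nat.coprime_primes r.2 Fact.out).2 hrq).pow a b
        have h4 := hcc.orderOf_mul_eq_mul_orderOf_of_coprime hco
        have e1 : c * x = MulAut.conj y x := by rw [hcdef, MulAut.conj_apply]; group
        rw [e1, MulEquiv.orderOf_eq] at h4
        have h5 : orderOf c = 1 :=
          Nat.eq_of_mul_eq_mul_right (orderOf_pos x) (by rw [one_mul]; exact h4.symm)
        have h6 : c = 1 := orderOf_eq_one_iff.1 h5
        rw [hcdef] at h6
        exact mul_inv_eq_iff_eq_mul.1 (mul_inv_eq_one.1 h6)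
      suffices hcom : ∀ u ∈ R, ∀ y ∈ Y, u * y = y * u by
        intro y hy
        refine Subgroup.centralizer_le_normalizer (R : Set A) (Subgroup.mem_centralizer_iff.2 fun u hu => ?_)
        exact hcom u hu y hy
      obtain ⟨x, hxd, e, hed, hde, hxp, hep⟩ := exists_parts d (r : ℕ)
      have hxq : (orderOf x).Coprime q := by
        obtain ⟨a, ha⟩ := IsPGroup.iff_card.1 hxp
        rw [Nat.card_zpowers] at ha
        rw [ha]
        exact ((Nat.coprime_primes r.2 Fact.out).2 hrq).pow_left a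
      -- (ii) `R` is generated modulo the centraliser of `Y` by fixed points of the `r`-part
      have hCn : ∀ g : A, g ∈ N → g ∈
          Subgroup.normalizer ((R ⊓ Subgroup.centralizer (Y : Set A) : Subgroup A) : Set A) :=
        fun g hg => Cfsg.Comp.inf_le_normalizer (T := N) le_rfl
          (Cfsg.Comp.le_normalizer_centralizer Cfsg.Comp.le_normalizer_of_normal) hg
      intro u₀ hu₀ y hy
      obtain ⟨u, huR, hux, huC⟩ := split hR inf_le_left hd (hCn d hd)
        (fun g hg => hCn g (Subgroup.le_normalizer hg)) hi hxd hxq hu₀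
      suffices hu : u * y = y * u by
        have h1 : Commute (u₀⁻¹ * u) y :=
          (Subgroup.mem_centralizer_iff.1 (Subgroup.mem_inf.1 huC).2 y hy).symm
        have h2 := (show Commute u y from hu).mul_left h1.inv_left
        have e2 : u * (u₀⁻¹ * u)⁻¹ = u₀ := by group
        rw [e2] at h2
        exact h2.eq
      -- (iii) the P × Q lemma
      have hZ : ∀ z ∈ Y ⊓ Subgroup.centralizer ({x} : Set A), z ∈ N := by
        intro z hz
        set Z := Y ⊓ Subgroup.centralizer ({x} : Set A) with hZdef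
        have hdc : d * x = x * d := by
          obtain ⟨k, rfl⟩ := Subgroup.mem_zpowers_iff.1 hxd
          exact (Commute.self_zpow d k).eq
        have hdZ : d ∈ Subgroup.normalizer (Z : Set A) := by
          refine Cfsg.Comp.inf_le_normalizer (T := Subgroup.centralizer ({x} : Set A))
            Cfsg.Comp.le_normalizer_of_normal Subgroup.le_normalizer ?_
          exact Subgroup.mem_centralizer_singleton_iff.2 hdc
        obtain ⟨w, hwZ, hwe, hwX⟩ := split (X := Z ⊓ sinkGrp d) (hYp.to_le inf_le_left) inf_le_left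
          hdZ (Cfsg.Comp.inf_le_normalizer (T := Subgroup.zpowers d) (Subgroup.zpowers_le.2 hdZ)
            (Subgroup.zpowers_le.2 (mem_normalizer_sinkGrp d)) (Subgroup.mem_zpowers d))
          (Cfsg.Comp.inf_le_normalizer (T := Z) Subgroup.le_normalizer
            (fun g hg => hXF g (Subgroup.mem_inf.1 hg).1))
          (fun g hg hgZ => Subgroup.mem_inf.2 ⟨hgZ, Subgroup.subset_closure hg⟩) hed hep hz
        have hwd : w * d = d * w := by
          have h1 : Commute w x := Subgroup.mem_centralizer_singleton_iff.1 (Subgroup.mem_inf.1 hwZ).2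
          rw [hde]
          exact (h1.mul_right hwe).eq
        have := mul_mem (hc w hwd) (inv_mem (hXN (Subgroup.mem_inf.1 hwX).2))
        rwa [show w * (z⁻¹ * w)⁻¹ = z by group] at this
      have huo : ¬ (r : ℕ) ∣ orderOf u := by
        obtain ⟨b, hb⟩ := hR ⟨u, huR⟩
        intro h
        have h2 := h.trans (orderOf_dvd_of_pow_eq_one (congrArg Subtype.val hb))
        exact hrq ((Nat.prime_dvd_prime_iff_eq r.2 Fact.out).1 (r.2.dvd_of_dvd_pow h2))
      refine Cfsg.Comp.pxq_lemma hxp huo ?_ Y hYp Cfsg.Comp.le_normalizer_of_normal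
        ((Cfsg.Comp.le_normalizer_of_normal : ⊤ ≤ Subgroup.normalizer (Y : Set A))
          (Subgroup.mem_top u)) ?_ y hy
      · intro g hg
        obtain ⟨k, rfl⟩ := Subgroup.mem_zpowers_iff.1 hg
        exact (Commute.zpow_right hux k).eq
      · intro z hzY hzC
        refine (key z hzY (hZ z (Subgroup.mem_inf.2 ⟨hzY, ?_⟩)) u huR).symm
        exact Subgroup.mem_centralizer_singleton_iff.2
          (Subgroup.mem_centralizer_iff.1 hzC x (Subgroup.mem_zpowers x)).symm
  have hF : (Cfsg.generalizedFittingSubgroup A).Normal := inferInstance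
  have hI : R ⊓ Cfsg.generalizedFittingSubgroup A ≤ Cfsg.pCore q A := by
    refine Cfsg.Comp.le_pCore_of_subnormal ?_ (hR.to_le inf_le_left)
    refine Subgroup.IsSubnormal.step _ _ inf_le_right hF.isSubnormal
      (Subgroup.normal_subgroupOf_of_le_normalizer ?_)
    exact Cfsg.Comp.inf_le_normalizer hFN Subgroup.le_normalizer
  refine H7.eq_bot_of_commutator_fStar hO hR (le_bot_iff.1 (le_trans ?_ (hI.trans hO.le)))
  rw [Subgroup.commutator_le]
  intro g hg u hu
  rw [commutatorElement_def]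
  refine Subgroup.mem_inf.2 ⟨mul_mem ?_ (inv_mem hu), ?_⟩
  · exact (Subgroup.mem_normalizer_iff.1 (hFN hg) u).1 hu
  · have := mul_mem hg (hF.conj_mem _ (inv_mem hg) u)
    simpa [mul_assoc] using this

theorem core (hC : CellStmt.{u}) : CoreStmt.{u} := by
  intro A _ _ q _ hsm d R hR hd hs hc
  set f := QuotientGroup.mk' (Cfsg.pCore q A)
  have hf : Function.Surjective f := QuotientGroup.mk'_surjective _
  have hQ : Cfsg.pCore q (A ⧸ Cfsg.pCore q A) = ⊥ := H10.pCore_quotient_pCore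
  have hn : ∀ g ∈ Subgroup.normalizer (R : Set A),
      f g ∈ Subgroup.normalizer ((R.map f : Subgroup _) : Set _) :=
    fun g hg => Subgroup.le_normalizer_map f (Subgroup.mem_map_of_mem f hg)
  have h := core_aux hC
    (hsm _ (Nat.le_of_dvd Nat.card_pos (Subgroup.card_quotient_dvd_card _))) hQ (hR.map f)
    (hn d hd) ?_ ?_
  · intro u hu
    have h1 : f u ∈ R.map f := Subgroup.mem_map_of_mem f hu
    rw [h, Subgroup.mem_bot] at h1
    exact (QuotientGroup.eq_one_iff u).1 h1
  · intro y hy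
    obtain ⟨x, hx, rfl⟩ := exists_sink_lift f hf hy
    exact hn x (hs hx)
  · intro g hg
    obtain ⟨g, rfl⟩ := hf g
    refine hn g (hc g ((QuotientGroup.eq_one_iff _).1 ?_))
    show f (phi d g) = 1
    rw [phi_map, phi, hg, mul_inv_cancel_right, mul_inv_cancel]

end H43.Sink
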